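import Mathlib
import Cfsg.Agent.U4F.Grp
import Cfsg.Agent.TD.QV

/-!
# Commutators in coordinates and common facts on essential subgroups
-/

set_option autoImplicit false
set_option linter.unusedSectionVars false
set_option linter.unusedVariables false

namespace Cfsg.Agent.U4F.Ek

open Cfsg Cfsg.FusionSystem Cfsg.Agent.Fus Subgroup Cfsg.Agent.Oc
open Cfsg.Agent.TD (Ed Ph imA card_imA)
open scoped commutatorElement

variable {K : Type*} [Field K] [StarRing K] [UF K] {p : ℕ} [Fact p.Prime] [CharP K p]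
  {E : Subgroup (UG K)} {Γ : Subgroup (MulAut E)} {g h : UG K}

theorem cm (g h : UG K) : ⁅g, h⁆.x = 0 ∧ ⁅g, h⁆.v.c = 0 ∧ ⁅g, h⁆.v.b = g.x * h.v.c - h.x * g.v.c ∧
    ⁅g, h⁆.v.a = (h.v.b * star g.x + star h.v.b * g.x) + g.x * star g.x * h.v.c -
      (g.v.b * star h.x + star g.v.b * h.x) - h.x * star h.x * g.v.c := by
  refine ⟨?_, ?_, ?_, ?_⟩ <;> simp [commutatorElement_def] <;> ring

theorem eq_one : g = 1 ↔ g.x = 0 ∧ g.v.c = 0 ∧ g.v.b = 0 ∧ g.v.a = 0 :=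
  ⟨fun e => e ▸ ⟨rfl, rfl, rfl, rfl⟩, fun e => UG.ext4 e.2.2.2 e.2.2.1 e.2.1 e.1⟩

theorem cm_H (g h : UG K) : ⁅g, h⁆ ∈ Hs K := ⟨(cm g h).1, (cm g h).2.1⟩

theorem H_cm (hg : g ∈ Hs K) (h : UG K) : ⁅g, h⁆ ∈ Zs K :=
  ⟨(cm g h).1, (cm g h).2.1, by rw [(cm g h).2.2.1, (mem_Hs.1 hg).1, (mem_Hs.1 hg).2]; ring⟩

theorem Q_cm (hg : g ∈ Qs K) (hh : h ∈ Qs K) : ⁅g, h⁆ ∈ Zs K :=
  ⟨(cm g h).1, (cm g h).2.1, by rw [(cm g h).2.2.1, mem_Qs.1 hg, mem_Qs.1 hh]; ring⟩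

theorem V_cm (hg : g ∈ Vs K) (hh : h ∈ Vs K) : ⁅g, h⁆ = 1 :=
  commutatorElement_eq_one_iff_mul_comm.2 (Vs_comm hg hh)

theorem cm_Z (g : UG K) (hh : h ∈ Zs K) : ⁅g, h⁆ = 1 :=
  commutatorElement_eq_one_iff_mul_comm.2 (Zs_comm hh g).symm

theorem swap {G : Type*} [Group G] {x y : G} (h : ⁅x, y⁆ = 1) : ⁅y, x⁆ = 1 := by
  rw [← commutatorElement_inv, h, inv_one]

theorem Z_le_H : Zs K ≤ Hs K := fun _ h => ⟨h.1, h.2.1⟩

/-- The element of `H` with coordinate `b`. -/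
def hb (b : K) : UG K := jv ⟨0, b, 0, star_zero _, star_zero _⟩

theorem hb_mem (b : K) : hb b ∈ Hs K := ⟨rfl, rfl⟩

theorem pow_x (g : UG K) (n : ℕ) : (g ^ n).x = n * g.x := by
  induction n with
  | zero => simp
  | succ n ih => rw [pow_succ, mul_x, ih]; push_cast; ring

theorem pow_V (g : UG K) : g ^ p ∈ Vs K := by rw [mem_Vs, pow_x, CharP.cast_eq_zero, zero_mul]

theorem V_pow (hg : g ∈ Vs K) : g ^ p = 1 :=
  (isElementaryAbelian_of_le p (A := Vs K) le_rfl).2 g hg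

theorem Ph_le_V : Ph p E ≤ Vs K := TD.Ph_le_of (fun x _ y _ => (cm x y).1) fun x _ => pow_V x

/-- An element of `H` commuting with `g`. -/
theorem H_cm_a (hg : g ∈ Hs K) (h : UG K) : ⁅g, h⁆.v.a = -(g.v.b * star h.x + star g.v.b * h.x) := by
  rw [(cm g h).2.2.2, (mem_Hs.1 hg).1, (mem_Hs.1 hg).2]; simp

theorem H_cm_one (hg : g ∈ Hs K) : ⁅g, h⁆ = 1 ↔ g.v.b * star h.x + star g.v.b * h.x = 0 := by
  have := H_cm hg h
  rw [eq_one, H_cm_a hg, neg_eq_zero]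
  exact ⟨fun e => e.2.2.2, fun e => ⟨this.1, this.2.1, this.2.2, e⟩⟩

theorem V_cm_one (hg : g ∈ Vs K) (hx : h.x ≠ 0) :
    ⁅g, h⁆ = 1 ↔ g ∈ Hs K ∧ g.v.b * star h.x + star g.v.b * h.x = 0 := by
  refine ⟨fun e => ?_, fun e => (H_cm_one e.1).2 e.2⟩
  have h1 := (cm g h).2.2.1
  rw [e, mem_Vs.1 hg] at h1
  have h2 : g ∈ Hs K := ⟨hg, mem_Qs.2 (by simpa [hx] using h1)⟩
  exact ⟨h2, (H_cm_one h2).1 e⟩

theorem Z_le_Ph {e : UG K} (he : e ∈ E) {b : K} (hbE : ∀ t, star t = t → hb (t * b) ∈ E)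
    (h : b * star e.x + star b * e.x ≠ 0) : Zs K ≤ Ph p E := fun z hz => by
  have ht : star (-z.v.a / (b * star e.x + star b * e.x)) = -z.v.a / (b * star e.x + star b * e.x) := by
    simp [add_comm, mul_comm]
  have h1 := H_cm (hb_mem (-z.v.a / (b * star e.x + star b * e.x) * b)) e
  have : z = ⁅hb (-z.v.a / (b * star e.x + star b * e.x) * b), e⁆ := by
    refine UG.ext4 ?_ (hz.2.2.trans h1.2.2.symm) (hz.2.1.trans h1.2.1.symm) (hz.1.trans h1.1.symm)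
    rw [H_cm_a (hb_mem _)]
    change _ = -(_ * b * _ + star (_ * b) * _)
    rw [star_mul', ht]
    field_simp
    ring
  exact this ▸ TD.cm_Ph (hbE _ ht) he

theorem Z_le_Ph' (hH : Hs K ≤ E) {e : UG K} (he : e ∈ E) (hx : e.x ≠ 0) : Zs K ≤ Ph p E := by
  obtain ⟨b, hb'⟩ := tr_surj hx (star_one K)
  exact Z_le_Ph he (fun t _ => hH (hb_mem _)) (hb' ▸ one_ne_zero)

theorem fx (E : Subgroup (UG K)) : ∀ x ∈ E, ∀ y ∈ E, (x * y).x = x.x + y.x := fun _ _ _ _ => rfl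

theorem card_x (E : Subgroup (UG K)) :
    Nat.card E = Nat.card (imA E (·.x) (fx E)) * Nat.card (E ⊓ Vs K : Subgroup _) :=
  card_imA (fx E) fun _ => Iff.rfl

theorem card_line_le {u : K} (hu : u ≠ 0) (h : E ≤ Ex u) : Nat.card (imA E (·.x) (fx E)) ≤ qq K := by
  rw [← card_line hu]
  refine Nat.card_le_card_of_injective (fun a => ⟨a.1, ?_⟩) fun a b e => Subtype.ext (Subtype.mk.inj e)
  obtain ⟨g, hg, e⟩ := a.2
  exact e ▸ h hg

theorem exists_off {u : K} (hu : u ≠ 0) : ∃ w : K, ¬ ∃ t, star t = t ∧ w = t * u := by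
  obtain ⟨x, hx⟩ := UF.nt (K := K)
  exact ⟨x * u, fun ⟨t, ht, e⟩ => hx (by rw [mul_right_cancel₀ hu e, ht])⟩

/-- `E ⊓ V` is characteristic in `E` as soon as it is larger than `H`. -/
theorem iv_V (hH : Hs K ≤ E) {v : UG K} (hv : v ∈ E) (h1 : v ∈ Vs K) (h2 : v ∉ Hs K) :
    Iv Γ ((E ⊓ Vs K : Subgroup _) : Set (UG K)) := by
  refine ⟨fun _ hx => hx.1, fun α _ x hx => ⟨totA_mem α hx.1, ?_⟩⟩
  have hm := (mulOn_totA α).mono (inf_le_left : E ⊓ Vs K ≤ E)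
  refine le_Vs_of_comm (A := img (totA α) (E ⊓ Vs K)) (fun a ha b hb => ?_) ?_ (mem_img_of_mem hx)
  · obtain ⟨a, ha', rfl⟩ := hm.mem_img.1 ha
    obtain ⟨b, hb', rfl⟩ := hm.mem_img.1 hb
    rw [← hm a ha' b hb', ← hm b hb' a ha', Vs_comm ha'.2 hb'.2]
  · have : Nat.card (E ⊓ Vs K : Subgroup _) ≤ Nat.card (img (totA α) (E ⊓ Vs K)) :=
      Nat.card_le_card_of_injective (fun a => ⟨totA α a, mem_img_of_mem a.2⟩) fun a b e =>
        Subtype.ext (totA_inj α a.2.1 b.2.1 (congrArg Subtype.val e))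
    refine lt_of_lt_of_le ?_ this
    rw [← card_Hs]
    exact Set.ncard_lt_ncard (s := (Hs K : Set (UG K))) (t := (E ⊓ Vs K : Subgroup _))
      ⟨le_inf hH inf_le_left, fun k => h2 (k ⟨hv, h1⟩)⟩

end Cfsg.Agent.U4F.Ek
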