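import Mathlib
import Cfsg.Agent.U4F.Grp
import Cfsg.Agent.C3.Off
import Cfsg.Agent.U4F.EssK

/-!
# Essential subgroups contain `H`
-/

set_option autoImplicit false
set_option linter.unusedSectionVars false
set_option linter.unusedVariables false

namespace Cfsg.Agent.U4F

open Cfsg Cfsg.FusionSystem Cfsg.Agent.Fus Subgroup

variable {K : Type*} [Field K] [StarRing K] [UF K] {p : ℕ} [Fact p.Prime] [CharP K p]

open Ek Cfsg.Agent.Oc in
open Cfsg.Agent.TD (Ed Ph imA card_imA) in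
open scoped commutatorElement in
theorem H_le_ess {F : FS K} (hF : F.IsSaturated p) {E : Subgroup (UG K)} (hE : F.IsEssential p E) :
    Hs K ≤ E := by
  have hΩ := isPGroup_UG K p
  have h := TD.ed_of_essential hΩ hF hE
  have hZ : Zs K ≤ E := fun z hz => h.cent z fun x _ => swap (cm_Z x hz)
  have i0 : Iv (F.autGroup E) ((⊥ : Subgroup (UG K)) : Set (UG K)) := by rw [coe_bot]; exact Iv.one _
  obtain ⟨D, iD, hD⟩ := TD.exists_omega hΩ i0 fun e _ y hy => by simp [mem_bot.1 hy]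
  simp only [mem_bot] at hD
  have hZD : Zs K ≤ D := fun z hz => (hD z).2 ⟨hZ hz, fun e _ => cm_Z e hz, V_pow hz.1⟩
  by_contra hn
  obtain ⟨z, hz, hu⟩ : ∃ z ∈ D, z.x ≠ 0 := by
    by_contra H
    push Not at H
    exact hn fun g hg => h.ch1 hΩ iD (fun x _ => hZD (H_cm hg x)) fun y hy => V_cm hg.1 (H y hy) ▸ one_mem _
  have hW : ∀ y ∈ D, y.x ≠ 0 → ∀ g ∈ E, g ∈ Vs K → g ∈ Hs K ∧ g.v.b * star y.x + star g.v.b * y.x = 0 :=
    fun y hy h0 g hg hv => (V_cm_one hv h0).1 (((hD y).1 hy).2.1 g hg)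
  have fb : ∀ x ∈ Hs K ⊓ E, ∀ y ∈ Hs K ⊓ E, (x * y).v.b = x.v.b + y.v.b := fun x hx y hy => by
    simp [(mem_Hs.1 hx.1).1]
  have c1 := card_imA (E := Hs K ⊓ E) (Y := Zs K) fb fun x =>
    ⟨fun hx => ⟨⟨Z_le_H hx, hZ hx⟩, hx.2.2⟩, fun hx => ⟨hx.1.1.1, hx.1.1.2, hx.2⟩⟩
  have c2 : Nat.card (imA D (·.x) (fx D)) * Nat.card (imA (Hs K ⊓ E) (·.v.b) fb) ≤ qq K ^ 2 := by
    by_cases H : D ≤ Ex z.x
    · rw [sq]
      refine Nat.mul_le_mul (card_line_le hu H) ?_
      rw [← card_perp hu]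
      refine Nat.card_le_card_of_injective (fun a => ⟨a.1, ?_⟩) fun a b e => Subtype.ext (Subtype.mk.inj e)
      obtain ⟨g, hg, e⟩ := a.2
      exact e ▸ (hW z hz hu g hg.2 hg.1.1).2
    · obtain ⟨y, hy, hy'⟩ := SetLike.not_le_iff_exists.1 H
      have y0 : y.x ≠ 0 := fun e => hy' ⟨0, star_zero _, by rw [e, zero_mul]⟩
      have : imA (Hs K ⊓ E) (·.v.b) fb = ⊥ := eq_bot_iff.2 (by
        rintro _ ⟨g, hg, rfl⟩
        exact eq_zero_of_perp_two hu hy' (hW z hz hu g hg.2 hg.1.1).2 (hW y hy y0 g hg.2 hg.1.1).2)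
      rw [this, AddSubgroup.card_bot, mul_one, ← card_K]
      exact AddSubgroup.card_le_card_addGroup _
  obtain ⟨L, _, _, t, d1, d2, N⟩ := h.qv1 (D0 := ⊥) (C := D ⊓ Vs K) (X := Hs K) hΩ i0 iD bot_le inf_le_left
    (fun e he y hy => ((hD y).1 hy).2.1 e he) (fun y hy => ((hD y).1 hy).2.2)
    (fun x hx e _ => hZD (H_cm hx e)) hn (fun x hx y _ => hZ (H_cm hx y))
    (fun x hx => V_pow (p := p) hx.1 ▸ one_mem _) (fun x hx y hy => V_cm hx.1 hy.2)
    (fun x hx y _ => ⟨hZD (H_cm hx y), (cm x y).1⟩)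
    (fun g hg y hy => ⟨h.conj_mem hΩ iD hg hy.1, normal_Vs.conj_mem y hy.2 g⟩)
    (fun x _ y hy => by simp [mem_bot.1 hy])
    (by rw [card_x D, c1, card_Zs, card_Hs]
        calc _ = Nat.card (D ⊓ Vs K : Subgroup _) * (Nat.card (imA D (·.x) (fx D)) *
              Nat.card (imA (Hs K ⊓ E) (·.v.b) fb)) * qq K := by ring
          _ ≤ Nat.card (D ⊓ Vs K : Subgroup _) * qq K ^ 2 * qq K := by gcongr
          _ = _ := by ring)
  have h0 : ∀ g ∈ Hs K, g.v.b * star z.x + star g.v.b * z.x = 0 → g ∈ E := fun g hg e => by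
    have := N.cm g hg z hz
    rw [(H_cm_one hg).2 e, N.c1zero 1 (one_mem _), eq_comm, mul_eq_zero] at this
    exact (N.tzero g hg).1 (this.resolve_right fun e2 => hu ((N.c2zero z hz).1 e2).2)
  obtain ⟨w, w0, hw⟩ := exists_perp z.x
  have hx : E ≤ Ex z.x := fun e he => by
    by_contra H
    refine hn fun g hg => h.ch0 hΩ fun x _ => Z_le_Ph he (b := w) (fun s hs => h0 _ (hb_mem _) ?_)
      (fun k => w0 (eq_zero_of_perp_two hu H hw k)) (H_cm hg x)
    change s * w * _ + star (s * w) * _ = 0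
    rw [star_mul', hs]
    linear_combination s * hw
  by_cases h2 : (2 : K) = 0
  · obtain ⟨x, hx', e, he, e1⟩ := N.norm (jv ⟨0, 0, 1, star_zero _, star_one _⟩) fun g hg => h0 _ (cm_H _ _) (by
      obtain ⟨s, hs, e⟩ := hx hg
      rw [(cm _ g).2.2.1, e]
      simp only [jv_x, jv_v, zero_mul, mul_one, zero_sub, star_neg, star_mul', hs]
      linear_combination -(s * z.x * star z.x) * h2)
    have a1 := congrArg UG.x e1
    have a2 := congrArg (·.v.c) e1
    simp only [jv_x, jv_v, mul_x, mul_v, add_c, uu_c, (mem_Hs.1 hx').1, (mem_Hs.1 hx').2, zero_add] at a1 a2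
    exact one_ne_zero (a2.trans (hW z hz hu e he a1.symm).1.2)
  · obtain ⟨x, hx', e, he, e1⟩ := N.norm (sx w) fun g hg => h0 _ (cm_H _ _) (by
      rw [(cm _ g).2.2.1]
      simp only [sx_x, sx_v, zero_c, mul_zero, sub_zero, star_mul', g.v.hc]
      linear_combination g.v.c * hw)
    have a1 := congrArg UG.x e1
    obtain ⟨s, hs, e2⟩ := hx he
    simp only [sx_x, mul_x, (mem_Hs.1 hx').1, zero_add, e2] at a1
    rw [a1, star_mul', hs] at hw
    have : 2 * (s * z.x * star z.x) = 0 := by linear_combination hw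
    simp only [mul_eq_zero, h2, hu, star_eq_zero, or_false, false_or] at this
    exact w0 (by rw [a1, this, zero_mul])

end Cfsg.Agent.U4F
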