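import Mathlib
import Cfsg.Agent.U4F.Grp
import Cfsg.Agent.C3.Off
import Cfsg.Agent.U4F.EssK

/-!
# Essential subgroups containing `H` but not `V`
-/

set_option autoImplicit false
set_option linter.unusedSectionVars false
set_option linter.unusedVariables false

namespace Cfsg.Agent.U4F

open Cfsg Cfsg.FusionSystem Cfsg.Agent.Fus Subgroup

variable {K : Type*} [Field K] [StarRing K] [UF K] {p : ℕ} [Fact p.Prime] [CharP K p]

open Ek Cfsg.Agent.Oc in
open Cfsg.Agent.TD (Ed Ph imA card_imA) in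
open scoped commutatorElement in
theorem ess_eq_Q {F : FS K} (hF : F.IsSaturated p) {E : Subgroup (UG K)} (hE : F.IsEssential p E)
    (hH : Hs K ≤ E) (hV : ¬ Vs K ≤ E) : E = Qs K := by
  have hΩ := isPGroup_UG K p
  have h := TD.ed_of_essential hΩ hF hE
  have h1 : ∀ v ∈ E, v ∈ Vs K → v ∈ Hs K := fun v hv h1 => by
    by_contra h2
    exact hV fun g hg => h.ch1 hΩ (iv_V hH hv h1 h2) (fun x _ => ⟨hH (cm_H g x), (cm g x).1⟩)
      fun y hy => V_cm hg hy.2 ▸ one_mem _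
  obtain ⟨e, he, hu⟩ : ∃ e ∈ E, e.x ≠ 0 := by
    by_contra H
    push Not at H
    exact hV fun g hg => h.cent g fun x hx => V_cm hg (H x hx)
  obtain ⟨f, hf, hf'⟩ : ∃ f ∈ E, f ∉ Ex e.x := by
    by_contra H
    push Not at H
    obtain ⟨L, _, _, t, d1, d2, N⟩ := h.qv1 (D0 := Ph p E) (C := E ⊓ Vs K) (D1 := E) (X := Vs K) hΩ (TD.iv_Ph _)
      (Iv.top _) (le_inf TD.Ph_le Ph_le_V) inf_le_left (fun _ hx _ hy => TD.cm_Ph hx hy)
      (fun _ hy => TD.pow_Ph hy) (fun x _ e _ => hH (cm_H x e)) hV (fun x _ y _ => hH (cm_H x y))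
      (fun x hx => V_pow (p := p) hx ▸ one_mem _) (fun x hx y hy => V_cm hx hy.2 ▸ one_mem _)
      (fun x _ y _ => ⟨hH (cm_H x y), (cm x y).1⟩)
      (fun g hg y hy => ⟨h.conj_mem hΩ (Iv.top _) hg hy.1, normal_Vs.conj_mem y hy.2 g⟩)
      (fun x hx y hy => V_cm hx (Ph_le_V hy) ▸ one_mem _)
      (by have c1 : Nat.card (E ⊓ Vs K : Subgroup _) ≤ qq K ^ 3 :=
            card_Hs K ▸ card_le_of_le fun v hv => h1 v hv.1 hv.2
          have c2 := card_line_le hu H
          rw [inf_comm (Vs K), mul_comm, card_x E, card_Vs]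
          refine Nat.mul_le_mul_left _ ((Nat.mul_le_mul c2 c1).trans (le_of_eq (by ring))))
    obtain ⟨w, hw⟩ := exists_off hu
    obtain ⟨x, hx, g, hg, e1⟩ := N.norm (sx w) fun g _ => hH (cm_H _ g)
    obtain ⟨s, hs, e2⟩ := H g hg
    have a1 := congrArg UG.x e1
    rw [sx_x, mul_x, mem_Vs.1 hx, zero_add, e2] at a1
    exact hw ⟨s, hs, a1⟩
  have iZ : Iv (F.autGroup E) (Zs K : Set (UG K)) := ((Iv.top _).cent (Iv.top _)).congr fun z =>
    ⟨fun hz => ⟨hH (Z_le_H hz), fun x _ => swap (cm_Z x hz)⟩, fun hz => by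
      have z1 : z ∈ Hs K := h1 z hz.1 (mem_Vs_of_comm_H fun g hg =>
        commutatorElement_eq_one_iff_mul_comm.1 (hz.2 g (hH hg)))
      exact ⟨z1.1, z1.2, eq_zero_of_perp_two hu hf' ((H_cm_one z1).1 (hz.2 e he)) ((H_cm_one z1).1 (hz.2 f hf))⟩⟩
  have hQ : E ≤ Qs K := fun y hy => by
    by_contra hc
    have iH : Iv (F.autGroup E) (Hs K : Set (UG K)) := ((Iv.top _).cmm (Iv.top _) iZ).congr fun z =>
      ⟨fun hz => ⟨hH hz, fun x _ => H_cm hz x⟩, fun hz => by
        have k : ∀ g ∈ E, z.x * g.v.c - g.x * z.v.c = 0 := fun g hg => (cm z g).2.2.1 ▸ (hz.2 g hg).2.2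
        have c0 : z.v.c = 0 := by
          by_contra c0
          have k1 := k e he
          have k2 := k f hf
          have e0 : e.v.c ≠ 0 := fun e0 => by simp [e0, hu, c0] at k1
          refine hf' ⟨f.v.c / e.v.c, by simp, ?_⟩
          field_simp
          refine mul_right_cancel₀ c0 ?_
          linear_combination f.v.c * k1 - e.v.c * k2
        exact ⟨mem_Vs.2 (by simpa [c0, mt mem_Qs.2 hc] using k y hy), c0⟩⟩
    exact hV fun g hg => h.ch1 hΩ iH (fun x _ => cm_H g x) fun y hy => V_cm hg hy.1 ▸ one_mem _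
  exact le_antisymm hQ fun g hg => h.ch1 hΩ iZ (fun x hx => Q_cm hg (hQ hx)) fun y hy => cm_Z g hy ▸ one_mem _

end Cfsg.Agent.U4F
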