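import Mathlib
import Cfsg.Agent.U4F.Grp
import Cfsg.Agent.U4F.EssK

/-!
# Essential subgroups containing `V`
-/

set_option autoImplicit false
set_option linter.unusedSectionVars false
set_option linter.unusedVariables false

namespace Cfsg.Agent.U4F

open Cfsg Cfsg.FusionSystem Cfsg.Agent.Fus Subgroup

variable {K : Type*} [Field K] [StarRing K] [UF K] {p : ℕ} [Fact p.Prime] [CharP K p]

namespace Ess3

open Ek Cfsg.Agent.Oc
open scoped commutatorElement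

variable {E : Subgroup (UG K)} {Γ : Subgroup (MulAut E)}

theorem cm_ext {v w g h : UG K} (hb : ⁅v, g⁆.v.b = ⁅w, h⁆.v.b) (ha : ⁅v, g⁆.v.a = ⁅w, h⁆.v.a) : ⁅v, g⁆ = ⁅w, h⁆ :=
  UG.ext4 ha hb ((cm v g).2.1.trans (cm w h).2.1.symm) ((cm v g).1.trans (cm w h).1.symm)

/-- Two elements of `V` with nested sets of commutators. -/
theorem key {u r : K} (hu : u ≠ 0) (hr : star r = r) (r0 : r ≠ 0) (r1 : r ≠ 1) (hx : E ≤ Ex u) {e f : UG K}
    (he : e ∈ E) (hf : f ∈ E) (e1 : e.x = u) (e2 : f.x = r * u) {v w : UG K} (hv : v ∈ Vs K) (hw : w ∈ Vs K)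
    (h : ∀ g ∈ E, ∃ g' ∈ E, ⁅w, g⁆ = ⁅v, g'⁆) (h1 : ⁅w, e⁆ ≠ 1) (h2 : ⁅w * v⁻¹, e⁆ ≠ 1) : v ∈ Hs K := by
  refine ⟨hv, ?_⟩
  by_contra c0
  replace c0 : v.v.c ≠ 0 := c0
  have k : ∀ g ∈ E, ∀ t, star t = t → g.x = t * u →
      t * ((w.v.b * star u + star w.v.b * u) * v.v.c - (v.v.b * star u + star v.v.b * u) * w.v.c) +
        t * t * (u * star u) * w.v.c * (v.v.c - w.v.c) = 0 := fun g hg t ht e => by
    obtain ⟨g', hg', k⟩ := h g hg
    obtain ⟨t', ht', e'⟩ := hx hg'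
    have k1 := congrArg (·.v.b) k
    have k2 := congrArg (·.v.a) k
    simp only [cm, mem_Vs.1 hv, mem_Vs.1 hw, e, e', star_mul', ht, ht', zero_mul, star_zero, mul_zero, zero_sub,
      neg_inj, add_zero] at k1 k2
    have k3 : t * w.v.c = t' * v.v.c := mul_left_cancel₀ hu (by linear_combination k1)
    linear_combination -v.v.c * k2 - ((v.v.b * star u + star v.v.b * u) + u * star u * (t * w.v.c + t' * v.v.c)) * k3
  have k1 := k e he 1 (star_one _) (by rw [e1, one_mul])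
  have k2 := k f hf r hr e2
  have k3 : r * (r - 1) * (u * star u) * (w.v.c * (v.v.c - w.v.c)) = 0 := by linear_combination k2 - r * k1
  simp only [mul_eq_zero, r0, sub_eq_zero, r1, hu, star_eq_zero, false_or] at k3
  have ex : e.x ≠ 0 := e1 ▸ hu
  rcases k3 with k3 | k3
  · refine h1 ((V_cm_one hw ex).2 ⟨⟨hw, k3⟩, mul_right_cancel₀ c0 ?_⟩)
    rw [k3] at k1
    rw [e1]
    linear_combination k1
  · have m : w * v⁻¹ ∈ Vs K := (Vs K).mul_mem hw ((Vs K).inv_mem hv)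
    refine h2 ((V_cm_one m ex).2 ⟨⟨m, mem_Qs.2 (by simp [k3])⟩, mul_right_cancel₀ c0 ?_⟩)
    rw [← k3] at k1
    simp only [e1, mul_v, inv_v, add_b, uu_b, neg_b, mem_Vs.1 hv, mem_Vs.1 hw, neg_zero, zero_mul, add_zero,
      star_add, star_neg]
    linear_combination k1

theorem iv_H {u r : K} (hu : u ≠ 0) (hr : star r = r) (r0 : r ≠ 0) (r1 : r ≠ 1) (hx : E ≤ Ex u) {e : UG K}
    (he : e ∈ E) (e1 : e.x = u) (hV : Vs K ≤ E) (iV : Iv Γ (Vs K : Set (UG K)))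
    (hE : ∀ g ∈ E, ∃ g' ∈ E, g'.x = r * g.x) : Iv Γ (Hs K : Set (UG K)) := by
  have ex : e.x ≠ 0 := e1 ▸ hu
  have iW := iV.cent (Iv.top Γ)
  have hW : ∀ v ∈ Vs K, ⁅v, e⁆ = 1 → ∀ g ∈ E, ⁅v, g⁆ = 1 := fun v hv h g hg => by
    obtain ⟨t, ht, e2⟩ := hx hg
    obtain ⟨h1, h2⟩ := (V_cm_one hv ex).1 h
    rw [H_cm_one h1, e2, star_mul', ht, ← e1]
    linear_combination t * h2
  have back : ∀ α ∈ Γ, ∀ v ∈ Vs K, ⁅totA α v, e⁆ = 1 → ⁅v, e⁆ = 1 := fun α hα v hv h =>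
    (iW.back hα (hV hv) ⟨iV.mp α hα v hv, hW _ (iV.mp α hα v hv) h⟩).2 e he
  refine ⟨fun x hx => hV hx.1, fun α hα v hv => ?_⟩
  by_cases h0 : ⁅v, e⁆ = 1
  · exact ((V_cm_one (iV.mp α hα v hv.1) ex).1 ((iW.mp α hα v ⟨hv.1, hW v hv.1 h0⟩).2 e he)).1
  obtain ⟨f, hf, e2⟩ := hE e he
  have m := hb_mem (r * v.v.b)
  have b1 : (hb (r * v.v.b)).v.b = r * v.v.b := rfl
  rw [H_cm_one hv] at h0
  refine key hu hr r0 r1 hx he hf e1 (e1 ▸ e2) (iV.mp α hα v hv.1) (iV.mp α hα _ m.1) (fun g hg => ?_)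
    (fun k => ?_) fun k => ?_
  · obtain ⟨g', hg', e3⟩ := hE _ (totA_mem α⁻¹ hg)
    refine ⟨totA α g', totA_mem α hg', ?_⟩
    rw [← totA_totA_inv α hg, ← (mulOn_totA α).map_commutatorElement (hV m.1) (totA_mem α⁻¹ hg),
      ← (mulOn_totA α).map_commutatorElement (hV hv.1) hg']
    refine congrArg _ (cm_ext ((H_cm m _).2.2.trans (H_cm hv _).2.2.symm) ?_)
    rw [H_cm_a m, H_cm_a hv, e3, b1, star_mul', star_mul', hr]
    ring
  · have := (H_cm_one m).1 (back α hα _ m.1 k)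
    rw [b1, star_mul', hr] at this
    exact h0 (mul_left_cancel₀ r0 (by linear_combination this))
  · rw [← (mulOn_totA α).map_inv (hV hv.1), ← (mulOn_totA α).map_mul (hV m.1) (inv_mem (hV hv.1))] at k
    have := (H_cm_one (mul_mem m (inv_mem hv))).1 (back α hα _ (mul_mem m.1 (inv_mem hv.1)) k)
    simp only [mul_v, inv_v, add_b, uu_b, neg_b, b1, (mem_Hs.1 hv).1, (mem_Hs.1 m).1, neg_zero, zero_mul, add_zero,
      star_add, star_neg, star_mul', hr] at this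
    exact h0 (mul_left_cancel₀ (sub_ne_zero.2 r1) (by linear_combination this))

end Ess3

open Ek Ess3 Cfsg.Agent.Oc in
open scoped commutatorElement in
theorem ess_of_V_le {F : FS K} (hF : F.IsSaturated p) {E : Subgroup (UG K)} (hE : F.IsEssential p E)
    (hV : Vs K ≤ E) : E = Vs K ∨ (qq K = 2 ∧ ∃ x₀ : K, x₀ ≠ 0 ∧ E = Ex x₀) := by
  have hΩ := isPGroup_UG K p
  have h := TD.ed_of_essential hΩ hF hE
  have hH : Hs K ≤ E := fun _ hx => hV hx.1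
  have iV : Iv (F.autGroup E) (Vs K : Set (UG K)) :=
    (iv_V hH (v := jv ⟨0, 0, 1, star_zero _, star_one _⟩) (hV rfl) rfl fun k => one_ne_zero k.2).congr fun x =>
      ⟨fun hx => ⟨hV hx, hx⟩, fun hx => hx.2⟩
  by_cases hle : E ≤ Vs K
  · exact .inl (le_antisymm hle hV)
  obtain ⟨e, he, hu⟩ := SetLike.not_le_iff_exists.1 hle
  replace hu : e.x ≠ 0 := hu
  have hn : ¬ Iv (F.autGroup E) (Hs K : Set (UG K)) := fun iH => by
    obtain ⟨g, hg, -⟩ := h.exists_notMem hΩ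
    exact hg (h.ch1 hΩ iH (fun x _ => cm_H g x) fun y hy => Z_le_Ph' hH he hu (TD.cm_swap (H_cm hy g)))
  have iW := iV.cent (Iv.top (F.autGroup E))
  have hx : E ≤ Ex e.x := fun f hf => by
    by_contra hf'
    have f0 : f.x ≠ 0 := fun k => hf' ⟨0, star_zero _, by rw [k, zero_mul]⟩
    refine hn ((iV.cmm (Iv.top _) iW).congr fun v => ⟨fun hv => ⟨hv.1, fun g _ =>
      ⟨(cm v g).1, fun x _ => swap (cm_Z x (H_cm hv g))⟩⟩, fun hv => ⟨hv.1, mem_Qs.2 ?_⟩⟩)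
    have k := hv.2 e he
    have := eq_zero_of_perp_two hu hf' ((V_cm_one k.1 hu).1 (k.2 e he)).2 ((V_cm_one k.1 f0).1 (k.2 f hf)).2
    rw [(cm v e).2.2.1, mem_Vs.1 hv.1] at this
    simpa [hu] using this
  by_cases h2 : (2 : K) = 0
  swap
  · refine (hn (iv_H (r := -1) hu (by simp) (by simp) (fun k => h2 (by linear_combination -k)) hx he rfl hV iV
      fun g hg => ⟨g⁻¹, inv_mem hg, by simp⟩)).elim
  have hE' : E = Ex e.x := le_antisymm hx fun g hg => by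
    obtain ⟨s, hs, e1⟩ := hg
    refine h.ch2 hΩ iV iW (fun x _ => (cm g x).1) (fun v hv => ⟨(cm g v).1, fun x hx' => ?_⟩) fun v hv => ?_
    · obtain ⟨t, ht, e2⟩ := hx hx'
      rw [H_cm_one (cm_H g v), (cm g v).2.2.1, mem_Vs.1 hv, e1, e2]
      simp only [zero_mul, sub_zero, star_mul', hs, ht, v.v.hc]
      linear_combination (s * t * v.v.c * e.x * star e.x) * h2
    · obtain ⟨h1, h3⟩ := (V_cm_one hv.1 hu).1 (hv.2 e he)
      rw [swap ((H_cm_one h1).2 (by rw [e1, star_mul', hs]; linear_combination s * h3))]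
      exact one_mem _
  refine .inr ⟨?_, _, hu, hE'⟩
  by_contra hq
  obtain ⟨r, hr, r0, r1⟩ := exists_fix_ne (lt_of_le_of_ne (two_le_qq K) (Ne.symm hq))
  refine hn (iv_H hu hr r0 r1 hx he rfl hV iV fun g hg => ⟨sx (r * g.x), hE'.ge ?_, rfl⟩)
  obtain ⟨t, ht, e2⟩ := hx hg
  exact ⟨r * t, by rw [star_mul', hr, ht], by rw [sx_x, e2, mul_assoc]⟩

end Cfsg.Agent.U4F
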