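import Mathlib
import Cfsg.Agent.U4F.Ess1
import Cfsg.Agent.U4F.Ess2
import Cfsg.Agent.U4F.Ess3
import Cfsg.Agent.Fus.Normal

/-!
# The essential subgroups
-/

set_option autoImplicit false
set_option linter.unusedSectionVars false
set_option linter.unusedVariables false

namespace Cfsg.Agent.U4F

open Cfsg Cfsg.FusionSystem Cfsg.Agent.Fus Subgroup

variable {K : Type*} [Field K] [StarRing K] [UF K] {p : ℕ} [Fact p.Prime] [CharP K p]

theorem ess_cases {F : FS K} (hF : F.IsSaturated p) {E : Subgroup (UG K)} (hE : F.IsEssential p E) :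
    E = Vs K ∨ E = Qs K ∨ (qq K = 2 ∧ ∃ x₀ : K, x₀ ≠ 0 ∧ E = Ex x₀) := by
  by_cases hV : Vs K ≤ E
  · exact (ess_of_V_le hF hE hV).imp_right .inr
  · exact .inr (.inl (ess_eq_Q hF hE (H_le_ess hF hE) hV))

theorem ess_Q {F : FS K} (hF : F.IsSaturated p) (hc : F.core = ⊥) : F.IsEssential p (Qs K) := by
  by_contra hn
  have hN : F.IsNormal (Vs K) := hF.isNormal_of_alperin (isPGroup_top K p) fun R hR => by
    have hV : Vs K ≤ R := by
      rcases hR with rfl | hR
      · exact le_top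
      by_contra hV
      exact hn (ess_eq_Q hF hR (H_le_ess hF hR) hV ▸ hR)
    exact ⟨hV, fun g hg x hx => mor_V hg.mor hV hx⟩
  have := (hc ▸ hN.le_core) (Ek.hb_mem (1 : K)).1
  exact one_ne_zero (Ek.eq_one.1 (mem_bot.1 this)).2.2.1

theorem ess_V {F : FS K} (hF : F.IsSaturated p) (hc : F.core = ⊥) (hq : 2 < qq K) :
    F.IsEssential p (Vs K) := by
  by_contra hn
  have hN : F.IsNormal (Qs K) := hF.isNormal_of_alperin (isPGroup_top K p) fun R hR => by
    rcases hR with rfl | hR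
    · refine ⟨le_top, fun g hg x hx => ?_⟩
      obtain ⟨α, -, e⟩ := exists_AF hg.mor
      exact e x ▸ aut_Q α hx
    rcases ess_cases hF hR with rfl | rfl | h
    · exact (hn hR).elim
    · exact ⟨le_rfl, fun g hg x hx => hg.maps x hx⟩
    · exact (hq.ne' h.1).elim
  have := (hc ▸ hN.le_core) (Ek.hb_mem (1 : K)).2
  exact one_ne_zero (Ek.eq_one.1 (mem_bot.1 this)).2.2.1

end Cfsg.Agent.U4F
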