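import Mathlib
import Cfsg.Agent.U4F.Both
import Cfsg.Agent.Fus.Alperin

/-!
# `Aut_F(V)`
-/

set_option autoImplicit false
set_option linter.unusedSectionVars false
set_option linter.unusedVariables false

namespace Cfsg.Agent.U4F

open Cfsg Cfsg.FusionSystem Cfsg.Agent.Fus Subgroup

variable {K : Type*} [Field K] [StarRing K] [UF K] {p : ℕ} [Fact p.Prime] [CharP K p]

/-- An additive automorphism as an automorphism of `V`. -/
def xbAut (g : GA (Hm K)) : MulAut (Vs K) where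
  toFun x := ⟨jv (g x.1.v), rfl⟩
  invFun x := ⟨jv (g⁻¹ x.1.v), rfl⟩
  left_inv x := Subtype.ext (UG.ext (ga_inv_apply g _) (mem_Vs.1 x.2).symm)
  right_inv x := Subtype.ext (UG.ext (ga_apply_inv g _) (mem_Vs.1 x.2).symm)
  map_mul' x y := Subtype.ext (by
    change jv (g (x.1.v + uu x.1.x y.1.v)) = jv _ * jv _
    rw [jv_mul, mem_Vs.1 x.2, uu_zero, ga_one, map_add])

variable (K) in
/-- The same as a homomorphism. -/
def xbHom : GA (Hm K) →* MulAut (Vs K) := MonoidHom.mk' xbAut fun _ _ => rfl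

theorem xb_totA (g : GA (Hm K)) {x : UG K} (hx : x ∈ Vs K) : totA (xbHom K g) x = jv (g x.v) := totA_apply _ hx

theorem xb_jv_inj {v w : Hm K} (h : jv v = jv w) : v = w := congrArg UG.v h

theorem xb_inj : Function.Injective (xbHom K) := fun g h e => LinearEquiv.ext fun v =>
  xb_jv_inj ((xb_totA g (jv_mem v)).symm.trans (e ▸ xb_totA h (jv_mem v)))

theorem xb_surj : Function.Surjective (xbHom K) := fun α => by
  have h : ∀ (β : MulAut (Vs K)) v, (⟨jv (β ⟨jv v, rfl⟩).1.v, rfl⟩ : Vs K) = β ⟨jv v, rfl⟩ := fun β v =>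
    Subtype.ext (eq_jv (β _).2).symm
  refine ⟨mkA (fun v => (α ⟨jv v, rfl⟩).1.v) (fun v => (α⁻¹ ⟨jv v, rfl⟩).1.v) (fun v w => ?_) (fun v => ?_)
    fun v => ?_, MulEquiv.ext fun x => ?_⟩
  · rw [show (⟨jv (v + w), rfl⟩ : Vs K) = ⟨jv v, rfl⟩ * ⟨jv w, rfl⟩ from Subtype.ext (jv_mul v w).symm, map_mul,
      coe_mul, mul_v, mem_Vs.1 (α _).2, uu_zero, ga_one]
  · beta_reduce
    rw [h, MulAut.inv_apply_self]; rfl
  · beta_reduce
    rw [h, MulAut.apply_inv_self]; rfl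
  · exact (h α x.1.v).trans (congrArg α (Subtype.ext (eq_jv x.2).symm))

theorem xb_mem {F : FS K} {g : GA (Hm K)} : xbHom K g ∈ F.autGroup (Vs K) ↔ g ∈ XF F :=
  (mem_autGroup_iff le_top).trans (mor_congr fun _ hx => xb_totA g hx)

theorem xb_norm (s : UG K) : s ∈ normalizer (Vs K : Set (UG K)) := by
  haveI := normal_Vs (K := K)
  rw [normalizer_eq_top]; trivial

theorem xb_cAut (s : UG K) : xbHom K (uu s.x) = cAut (Vs K) s :=
  eq_cAut fun x => by rw [eq_jv x.2, conj_jv]; rfl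

theorem xb_mem_P {g : GA (Hm K)} : xbHom K g ∈ autInducedBy ⊤ (Vs K) ↔ g ∈ PP K := by
  rw [mem_autInducedBy_iff_cAut]
  constructor
  · rintro ⟨s, -, e⟩
    exact ⟨s.x, xb_inj (e.symm.trans (xb_cAut s).symm)⟩
  · rintro ⟨x, rfl⟩
    exact ⟨sx x, ⟨trivial, xb_norm _⟩, (xb_cAut (sx x)).symm⟩

theorem xb_full (F : FS K) : F.IsFullyNormalized (Vs K) :=
  F.isFullyNormalized_of_le_normalizer le_top fun s _ => xb_norm s

theorem xb_extend {F : FS K} (hF : F.IsSaturated p) {g : GA (Hm K)} (hg : g ∈ XF F) :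
    ∃ R f, F.Mor R f ∧ Vs K ≤ R ∧ (∀ v, f (jv v) = jv (g v)) ∧ ∀ s : UG K, g * uu s.x * g⁻¹ ∈ PP K → s ∈ R := by
  obtain ⟨f, hf, e⟩ := (hF.receptive_of_fullyNormalized (isPGroup_top K p) (xb_full F)).extend
    ((mem_XF.1 hg).iso_self fun _ _ => jv_mem _)
  have key : ∀ s : UG K, g * uu s.x * g⁻¹ ∈ PP K → s ∈ extN ⊤ (Vs K) fun a => jv (g a.v) := by
    rintro s ⟨y, h⟩
    refine ⟨trivial, xb_norm s, sx y, trivial, fun x hx => ?_⟩
    rw [eq_jv hx, conj_jv, conj_jv]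
    beta_reduce
    rw [jv_v, jv_v, sx_x, ← h, ga_mul, ga_mul, ga_inv_apply]
  refine ⟨_, f, hf, fun s hs => key s ?_, fun v => e _ (jv_mem v), key⟩
  rw [mem_Vs.1 hs, uu_zero, mul_one, mul_inv_cancel]
  exact one_mem _

theorem iso_V {F : FS K} {f : UG K → UG K} (hf : F.Mor (Vs K) f) :
    ∃ g ∈ XF F, ∀ v, f (jv v) = jv (g v) := by
  obtain ⟨α, hα, e⟩ := (hf.iso_self fun _ hx => mor_V hf le_rfl hx).exists_aut
  obtain ⟨g, rfl⟩ := xb_surj α
  exact ⟨g, xb_mem.1 hα, fun v => (e _ (jv_mem v)).symm.trans (xb_totA g (jv_mem v))⟩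

theorem uu_mem_X (F : FS K) (x : K) : uu x ∈ XF F :=
  xb_mem.1 (F.autInducedBy_le_autGroup le_top (xb_mem_P.2 ⟨x, rfl⟩))

theorem res_X {F : FS K} {α : MulAut (UG K)} (hα : α ∈ AF F) :
    ∃ g ∈ XF F, g ∈ normalizer (PP K : Set (GA (Hm K))) ∧ ∀ v, α (jv v) = jv (g v) := by
  obtain ⟨g, hg, e⟩ := iso_V ((mem_AF.1 hα).mono le_top)
  refine ⟨g, hg, mem_normalizer_fintype ?_, e⟩
  rintro _ ⟨x, rfl⟩
  refine ⟨(α (sx x)).x, ?_⟩
  rw [mul_inv_eq_iff_eq_mul]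
  refine LinearEquiv.ext fun v => xb_jv_inj ?_
  rw [ga_mul, ga_mul, ← e, ← conj_jv, ← e, ← map_inv, ← map_mul, ← map_mul, conj_jv, sx_x]

theorem syl_X {F : FS K} (hF : F.IsSaturated p) : Syl p (PP K) (XF F) := by
  refine ⟨by rintro _ ⟨x, rfl⟩; exact uu_mem_X F x, ?_⟩
  have h := (hF.fullyAutomized (isPGroup_top K p) (xb_full F)).not_dvd (isPGroup_top K p)
  rwa [show PP K = (autInducedBy ⊤ (Vs K)).comap (xbHom K) from Subgroup.ext fun _ => xb_mem_P.symm,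
    show XF F = (F.autGroup (Vs K)).comap (xbHom K) from Subgroup.ext fun _ => xb_mem.symm, relIndex_comap,
    map_comap_eq_self_of_surjective xb_surj]

theorem ext_X {F : FS K} (hF : F.IsSaturated p) {g : GA (Hm K)} (hg : g ∈ XF F)
    (hn : g ∈ normalizer (PP K : Set (GA (Hm K)))) : ∃ α ∈ AF F, ∀ v, α (jv v) = jv (g v) := by
  obtain ⟨R, f, hf, -, e, h⟩ := xb_extend hF hg
  obtain ⟨α, hα, e'⟩ := exists_AF (hf.mono fun s _ => h s ((mem_normalizer_iff.1 hn _).1 ⟨_, rfl⟩))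
  exact ⟨α, hα, fun v => (e' _).trans (e v)⟩

theorem ti_X {F : FS K} (hF : F.IsSaturated p) (hq : 2 < qq K) : TI (PP K) (XF F) := by
  rintro g hg _ ⟨x, rfl⟩ h1 h2
  obtain ⟨R, f, hf, hV, e, h⟩ := xb_extend hF hg
  have hs : sx x ∈ R := h _ h2
  obtain ⟨α, hα, e'⟩ : ∃ α ∈ AF F, ∀ a ∈ R, f a = α a := by
    refine hF.alperin_induction (isPGroup_top K p) (M := fun f => ∃ α ∈ AF F, ∀ a ∈ R, f a = α a)
      ⟨1, one_mem _, fun _ _ => rfl⟩ ?_ ?_ hf
    · rintro f g ⟨α, hα, e⟩ h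
      exact ⟨α, hα, fun a ha => (h a ha).symm.trans (e a ha)⟩
    · rintro f E g - ⟨α, hα, e⟩ (rfl | hE) hg hm
      · obtain ⟨β, hβ, e'⟩ := exists_AF hg.mor
        exact ⟨β * α, mul_mem hβ hα, fun a ha => by beta_reduce; rw [e a ha, ← e']; rfl⟩
      · exfalso
        rcases ess_cases hF hE with rfl | rfl | ⟨h, -⟩
        · have h3 := aut_V α⁻¹ (e _ hs ▸ hm _ hs)
          rw [MulAut.inv_apply_self] at h3
          exact h1 (by rw [show x = 0 from h3, uu_zero])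
        · have h3 := hV (aut_V α⁻¹ (jv_mem ⟨0, 0, 1, by simp, by simp⟩))
          have h4 := hm _ h3
          rw [e _ h3, MulAut.apply_inv_self] at h4
          exact one_ne_zero (mem_Qs.1 h4)
        · omega
  obtain ⟨g', -, hn, e''⟩ := res_X hα
  rwa [show g = g' from LinearEquiv.ext fun v => xb_jv_inj (by rw [← e, e' _ (hV (jv_mem v)), e''])]

theorem nn_X {F : FS K} (hF : F.IsSaturated p) (hV : F.IsEssential p (Vs K)) :
    ∃ g ∈ XF F, g ∉ normalizer (PP K : Set (GA (Hm K))) := by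
  by_contra! h
  refine one_ne_zero (mem_Vs.1 ((hV.isRadical (isPGroup_top K p)).mem_of_normal hV.isCentric
    (K := autInducedBy ⊤ (Vs K)) ((isPGroup_autInducedBy (isPGroup_top K p) _).to_inf_left) (fun l hl a ha => ?_)
    (s := sx 1) ⟨trivial, xb_norm _⟩ (cAut_mem_autInducedBy ⟨trivial, xb_norm _⟩)))
  obtain ⟨g, rfl⟩ := xb_surj l
  obtain ⟨u, rfl⟩ := xb_surj a
  rw [← map_inv, ← map_mul, ← map_mul, xb_mem_P]
  exact (mem_normalizer_iff.1 (h g (xb_mem.1 hl)) u).1 (xb_mem_P.1 ha)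

end Cfsg.Agent.U4F
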