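import Mathlib
import Cfsg.Agent.U4F.YB1
import Cfsg.Agent.U4F.Both

/-!
# `Y`: TI, non-normality, Frattini argument
-/

set_option autoImplicit false
set_option linter.unusedSectionVars false
set_option linter.unusedVariables false

namespace Cfsg.Agent.U4F

open Cfsg Cfsg.FusionSystem Cfsg.Agent.Fus Subgroup

variable {K : Type*} [Field K] [StarRing K] [UF K] {p : ℕ} [Fact p.Prime] [CharP K p]

theorem yb2_norm (s : UG K) : s ∈ normalizer (Qs K : Set (UG K)) := by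
  haveI := normal_Qs (K := K)
  rw [normalizer_eq_top]; trivial

theorem yb2_conj (s : UG K) {g : UG K} (hg : g ∈ Qs K) : s * g * s⁻¹ ∈ Qs K := normal_Qs.conj_mem g hg s

theorem yb2_full (F : FS K) : F.IsFullyNormalized (Qs K) :=
  F.isFullyNormalized_of_le_normalizer le_top fun s _ => yb2_norm s

theorem yb2_ZQ : Zs K ≤ Qs K := fun _ hg => hg.2.1

theorem yb2_exists {c : K} (hc : star c = c) : ∃ s : UG K, -s.v.c = c :=
  ⟨jv ⟨0, 0, -c, by simp, by simp [hc]⟩, neg_neg c⟩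

theorem yb2_uniq {F : FS K} {f f' : UG K → UG K} {M M' : GA (K × K)} (h : QInd F f M) (h' : QInd F f' M')
    (e : ∀ g ∈ Qs K, f g = f' g) : M = M' := LinearEquiv.ext fun v => by
  have hg : (⟨⟨0, v.2, 0, by simp, by simp⟩, v.1⟩ : UG K) ∈ Qs K := rfl
  exact (h.ind _ hg).symm.trans (e _ hg ▸ h'.ind _ hg)

theorem yb2_key {F : FS K} (hF : F.IsSaturated p) {f : UG K → UG K} {M : GA (K × K)} (h : QInd F f M)
    {s : UG K} (hs : M * rr (-s.v.c) * M⁻¹ ∈ RR K) : s ∈ extN ⊤ (Qs K) f := by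
  obtain ⟨d, hd, e⟩ := hs
  obtain ⟨t, ht⟩ := yb2_exists (c := -d) (by simp [hd])
  obtain ⟨f', h', e1, -⟩ := h.inv
  have h1 := (qInd_conj F t).comp (h.comp ((qInd_conj F s).comp h'))
  rw [← mul_assoc M, e, ht, rr_mul, neg_add_cancel, rr_zero] at h1
  obtain ⟨u, -, hu⟩ := ker_Y hF h1
  refine ⟨trivial, yb2_norm s, t⁻¹ * u, trivial, fun x hx => ?_⟩
  have h2 := hu _ (h.iso.maps x hx)
  beta_reduce at h2
  rw [e1 x hx] at h2
  rw [show t⁻¹ * u * f x * (t⁻¹ * u)⁻¹ = t⁻¹ * (u * f x * u⁻¹) * t by group, ← h2]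
  group

theorem yb2_res {F : FS K} {f : UG K → UG K} {M : GA (K × K)} (h : QInd F f M) {α : MulAut (UG K)}
    (e : ∀ g ∈ Qs K, f g = α g) : M ∈ normalizer (RR K : Set (GA (K × K))) := by
  refine mem_normalizer_fintype ?_
  rintro _ ⟨c, hc, rfl⟩
  obtain ⟨s, rfl⟩ := yb2_exists hc
  obtain ⟨f', h', -, e2⟩ := h.inv
  refine ⟨-(α s).v.c, by simp, ?_⟩
  rw [mul_assoc]
  refine yb2_uniq (h.comp ((qInd_conj F s).comp h')) (qInd_conj F (α s)) fun g hg => ?_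
  have h1 := h'.iso.maps g hg
  beta_reduce
  rw [e _ (yb2_conj s h1), map_mul, map_mul, map_inv, ← e _ h1, e2 g hg]

theorem ti_Y {F : FS K} (hF : F.IsSaturated p) : TI (RR K) (YF F) := by
  rintro g hg _ ⟨c, hc, rfl⟩ h1 h2
  obtain ⟨f, hf⟩ := mem_YF.1 hg
  obtain ⟨s, rfl⟩ := yb2_exists hc
  have hs := yb2_key hF hf h2
  have hQ := hf.iso.mor.le_extN
  obtain ⟨f₁, hf₁, e⟩ := (hF.receptive_of_fullyNormalized (isPGroup_top K p) (yb2_full F)).extend hf.iso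
  generalize extN ⊤ (Qs K) f = R at hs hQ hf₁
  obtain ⟨α, hα, e'⟩ : ∃ α ∈ AF F, ∀ a ∈ R, f₁ a = α a := by
    refine hF.alperin_induction (isPGroup_top K p) (M := fun f => ∃ α ∈ AF F, ∀ a ∈ R, f a = α a)
      ⟨1, one_mem _, fun _ _ => rfl⟩ ?_ ?_ hf₁
    · rintro f g ⟨α, hα, e⟩ h
      exact ⟨α, hα, fun a ha => (h a ha).symm.trans (e a ha)⟩
    · rintro f E g hfR ⟨α, hα, e⟩ (rfl | hE) hg hm
      · obtain ⟨β, hβ, e'⟩ := exists_AF hg.mor
        exact ⟨β * α, mul_mem hβ hα, fun a ha => by beta_reduce; rw [e a ha, ← e']; rfl⟩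
      · exfalso
        have h3 : Nat.card E ≤ Nat.card (Qs K) := by
          rw [card_Qs]
          rcases ess_cases hF hE with rfl | rfl | ⟨-, x₀, h0, rfl⟩
          · rw [card_Vs]; exact (qq_pow_lt K (by norm_num)).le
          · rw [card_Qs]
          · rw [card_Ex h0]
        rw [← eq_of_le_of_card_ge hQ ((hfR.card_le hm).trans h3)] at hs
        exact h1 (by rw [mem_Qs.1 hs, neg_zero, rr_zero])
  exact yb2_res hf fun a ha => (e a ha).symm.trans (e' a (hQ ha))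

theorem yh_Y {F : FS K} (hF : F.IsSaturated p) : YH p (YF F) := ⟨sp_Y F, syl_Y hF, ti_Y hF⟩

theorem frat_Y {F : FS K} (hF : F.IsSaturated p) {f : UG K → UG K} (hf : F.Iso (Qs K) (Qs K) f) :
    ∃ α ∈ AF F, ∃ f' M, QInd F f' M ∧ ∀ g ∈ Qs K, f g = α (f' g) := by
  have hS := isPGroup_top K p
  have hT := isPGroup_autInducedBy hS (Qs K)
  have hle := F.autInducedBy_le_autGroup (P := Qs K) le_top
  have h1 : autInducedBy ⊤ (Qs K) ≤ secStab (Qs K) (Zs K) ⊥ := by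
    intro a ha
    obtain ⟨s, -, rfl⟩ := mem_autInducedBy_iff_cAut.1 ha
    refine mem_secStab_of yb2_ZQ bot_le fun x hx => ?_
    rw [totA_cAut (yb2_norm s) (yb2_ZQ hx), ← Zs_comm hx s, mul_inv_cancel_right, inv_mul_cancel]
    exact one_mem _
  have h2 : ¬ p ∣ (autInducedBy ⊤ (Qs K)).relIndex (secStab (Qs K) (Zs K) ⊥ ⊓ F.autGroup (Qs K)) := fun h =>
    (hF.fullyAutomized hS (yb2_full F)).not_dvd hS
      (relIndex_mul_relIndex _ _ _ (le_inf h1 hle) inf_le_right ▸ h.mul_right _)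
  have hl := inv_mem hf.aut_mem
  obtain ⟨χ, ⟨hχ1, hχ2⟩, hχ⟩ := GT.Tr.exists_conj_le_sylowIn hT h2 (hT.map (MulAut.conj hf.aut⁻¹).toMonoidHom) (by
    rintro _ ⟨a, ha, rfl⟩
    refine ⟨conj_mem_secStab (h1 ha) (mem_stabA_of_maps yb2_ZQ fun x hx => iso_Q_Z (iso_totA le_top hl) hx)
      (mem_stabA_of_maps bot_le fun x hx => ?_),
      (F.autGroup _).mul_mem ((F.autGroup _).mul_mem hl (hle ha)) ((F.autGroup _).inv_mem hl)⟩
    rw [mem_bot.1 hx, (mulOn_totA _).map_one]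
    exact one_mem _)
  obtain ⟨β, hβ, e⟩ := (hF.receptive_of_fullyNormalized hS (yb2_full F)).extend_normalizerIn
    ((F.autGroup _).mul_mem hχ2 hl) fun a ha => by
      have := hχ _ ⟨a, ha, rfl⟩
      simpa [mul_assoc] using this
  obtain ⟨α, hα, e'⟩ := exists_AF ((mor_totA normalizerIn_le hβ).mono fun s _ => ⟨trivial, yb2_norm s⟩)
  obtain ⟨M, hM⟩ := exists_qInd (iso_totA le_top hχ2) fun z hz =>
    (inv_mul_eq_one.1 (mem_bot.1 ((mem_secStab.1 hχ1).2 z hz (yb2_ZQ hz)))).symm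
  refine ⟨α⁻¹, inv_mem hα, _, M, hM, fun g hg => ?_⟩
  have h3 := hf.maps g hg
  rw [MulAut.inv_apply, MulEquiv.eq_symm_apply, e', e _ h3, totA_mul _ _ h3, ← hf.totA_aut hg, totA_inv_totA _ hg]

theorem nn_Y {F : FS K} (hF : F.IsSaturated p) (hQ : F.IsEssential p (Qs K)) :
    ∃ g ∈ YF F, g ∉ normalizer (RR K : Set (GA (K × K))) := by
  by_contra! h
  refine one_ne_zero (mem_Qs.1 ((hQ.isRadical (isPGroup_top K p)).mem_of_normal hQ.isCentric
    (K := autInducedBy ⊤ (Qs K)) ((isPGroup_autInducedBy (isPGroup_top K p) _).to_inf_left) (fun l hl a ha => ?_)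
    (s := jv ⟨0, 0, 1, by simp, by simp⟩) ⟨trivial, yb2_norm _⟩ (cAut_mem_autInducedBy ⟨trivial, yb2_norm _⟩)))
  obtain ⟨α, hα, f', M, hM, e⟩ := frat_Y hF (iso_totA le_top hl)
  obtain ⟨β, hβ, e'⟩ := ext_Y hF hM (h M (mem_YF.2 ⟨f', hM⟩))
  obtain ⟨s, -, rfl⟩ := mem_autInducedBy_iff_cAut.1 ha
  rw [((mem_AF.1 (mul_mem hα hβ)).aut_mul_cAut le_top (fun x hx => by rw [e x hx, ← e' x hx]; rfl) trivial
    (yb2_norm s)).2]
  exact cAut_mem_autInducedBy ⟨trivial, yb2_norm _⟩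

end Cfsg.Agent.U4F
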