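import Mathlib
import Cfsg.Agent.U4F.XB
import Cfsg.Agent.U4F.GoodP
import Cfsg.Agent.U4F.YB2
import Cfsg.Agent.U4F.QStd

/-!
# A standard system is determined by `Aut_F(S)`
-/

set_option autoImplicit false
set_option linter.unusedSectionVars false
set_option linter.unusedVariables false

namespace Cfsg.Agent.U4F

open Cfsg Cfsg.FusionSystem Cfsg.Agent.Fus Subgroup

variable {K : Type*} [Field K] [StarRing K] [UF K] {p : ℕ} [Fact p.Prime] [CharP K p]

theorem eq_wv_mem {F : FS K} (hL : HasL F) : wv K ∈ XF F :=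
  mul_mem (mul_mem (uu_mem_X F 1) (hL _)) (uu_mem_X F 1)

theorem eq_XF_le {F F' : FS K} (hF : F.IsSaturated p) (hq : 2 < qq K) (hA : AF F ≤ AF F')
    (hL : HasL F) (hL' : HasL F') : XF F ≤ XF F' := by
  have k : ∀ g ∈ XF F, g ∈ normalizer (PP K : Set (GA (Hm K))) → g ∈ XF F' := fun g hg hn => by
    obtain ⟨α, hα, e⟩ := ext_X hF hg hn
    exact mem_XF.2 (((mem_AF.1 (hA hα)).mono le_top).congr fun x hx => by rw [← e, ← eq_jv hx])
  intro g hg
  rcases (ch_PP (syl_X hF) (ti_X hF hq)).two (eq_wv_mem hL) (wv_not_mem K) g hg with h | ⟨_, ⟨x, rfl⟩, h⟩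
  · exact k g hg h
  · have := k _ (mul_mem (inv_mem (mul_mem (uu_mem_X F x) (eq_wv_mem hL))) hg) h
    exact (mul_mem_cancel_left (inv_mem (mul_mem (uu_mem_X F' x) (eq_wv_mem hL')))).1 this

theorem eq_mor_Q {F F' : FS K} (hF : F.IsSaturated p) (hq : 3 < qq K) (hA : AF F ≤ AF F')
    (hW : HasW F) (hW' : HasW F') {f : UG K → UG K} {M : GA (K × K)} (h : QInd F f M) :
    F'.Mor (Qs K) f := by
  rcases two_Y (yh_Y hF) hq (mem_YF.2 ⟨_, qInd_wq hW⟩) (wr_not_mem K) M (mem_YF.2 ⟨_, h⟩) with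
    hn | ⟨_, ⟨c, hc, rfl⟩, hn⟩
  · obtain ⟨β, hβ, e⟩ := ext_Y hF h hn
    exact ((mem_AF.1 (hA hβ)).mono le_top).congr e
  · have h1 := (qInd_conj F (jv ⟨0, 0, -c, by simp, by simp [hc]⟩)).comp (qInd_wq hW)
    rw [jv_v, neg_neg] at h1
    obtain ⟨f1, h2, -, h3⟩ := h1.inv
    obtain ⟨β, hβ, e⟩ := ext_Y hF (h2.comp h) hn
    refine ((Mor.comp hW' ((mem_AF.1 (hA hβ)).mono le_top) fun x hx => aut_Q β hx).conj_comp
      (mem_top (jv ⟨0, 0, -c, by simp, by simp [hc]⟩))).congr fun x hx => ?_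
    rw [e x hx]
    exact h3 _ (h.iso.maps x hx)

theorem le_of_std {F F' : FS K} (hF : F.IsSaturated p) (hq : 3 < qq K) (hA : AF F ≤ AF F')
    (hL : HasL F) (hW : HasW F) (hL' : HasL F') (hW' : HasW F') : F ≤ F' := by
  refine le_iff_mor.2 fun P f hf => hF.mor_of_alperin (isPGroup_top K p) (fun R g hR hg => ?_) hf
  rcases hR with rfl | hR
  · obtain ⟨α, hα, e⟩ := exists_AF hg.mor
    exact (mem_AF.1 (hA hα)).congr fun x _ => e x
  rcases ess_cases hF hR with rfl | rfl | ⟨h, -⟩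
  · obtain ⟨M, hM, e⟩ := iso_V hg.mor
    exact (mem_XF.1 (eq_XF_le hF (by omega) hA hL hL' hM)).congr fun x hx => by rw [← e, ← eq_jv hx]
  · obtain ⟨α, hα, f', M, h, e⟩ := frat_Y hF hg
    exact (Mor.comp (mem_AF.1 (hA hα)) (eq_mor_Q hF hq hA hW hW' h) fun _ _ => mem_top _).congr
      fun x hx => (e x hx).symm
  · omega

end Cfsg.Agent.U4F
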