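import Mathlib
import Cfsg.Agent.U4F.Norm
import Cfsg.Agent.U4F.XB
import Cfsg.Agent.U4F.VStd
import Cfsg.Agent.U4F.YB2
import Cfsg.Agent.U4F.QStd

/-!
# Torus and standard form
-/

set_option autoImplicit false
set_option linter.unusedSectionVars false
set_option linter.unusedVariables false

namespace Cfsg.Agent.U4F

open Cfsg Cfsg.FusionSystem Cfsg.Agent.Fus Subgroup

variable {K : Type*} [Field K] [StarRing K] [UF K] {p : ℕ} [Fact p.Prime] [CharP K p]

theorem tor_t2 {F : FS K} (hF : F.IsSaturated p) (hq : 3 < qq K) (hN : Nm F)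
    (hQ : F.IsEssential p (Qs K)) (μ : K) (h0 : μ ≠ 0) (sμ : star μ = μ) :
    ∃ δ ∈ AF F ⊓ Dg K, IsD μ⁻¹ (μ * μ) (RingEquiv.refl K) δ := by
  obtain ⟨t, ht, htn, hx⟩ := tor_Y (yh_Y hF) hq (nn_Y hF hQ) sμ h0
  obtain ⟨f, hf⟩ := mem_YF.1 ht
  obtain ⟨α, hα, hαf⟩ := ext_Y hF hf htn
  obtain ⟨s, δ, hδ, e⟩ := hN α hα
  obtain ⟨l, m, σ, hD⟩ := mem_Dg.1 (mem_inf.1 hδ).2
  have e' : ∀ g, α g = s * δ g * s⁻¹ := fun g => by rw [e]; rfl
  have h1 : ∀ x, l * σ x = μ⁻¹ * x := by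
    intro x
    have hQx : sx x ∈ Qs K := by simp [mem_Qs]
    have a1 := congrArg Prod.fst (hf.ind _ hQx)
    simp only at a1
    rw [hx, ← hαf _ hQx, e'] at a1
    have a2 := hD.x (sx x)
    simp only [mul_x, inv_x, sx_x] at a1 a2
    rw [← a2, ← a1]; ring
  have hl : l = μ⁻¹ := by simpa using h1 1
  have hσ : σ = RingEquiv.refl K := by
    ext x
    have := h1 x
    rw [hl] at this
    exact mul_left_cancel₀ (inv_ne_zero h0) this
  subst hl hσ
  let z : UG K := jv ⟨1, 0, 0, by simp, by simp⟩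
  have hz : z ∈ Zs K := ⟨rfl, rfl, rfl⟩
  have hzQ : z ∈ Qs K := rfl
  have h2 : δ z = z := by
    have b1 := hαf z hzQ
    rw [hf.fix z hz, e', ← Zs_comm (aut_Z δ hz) s, mul_inv_cancel_right] at b1
    exact b1
  have h3 := hD.a z
  rw [h2] at h3
  have h4 : m = μ * μ := by
    have : (1 : K) = μ⁻¹ * μ⁻¹ * m := by simpa [z, sμ] using h3
    field_simp at this
    rw [← this]; ring
  subst h4
  exact ⟨δ, hδ, hD⟩

theorem tor_hasL {F : FS K} (hF : F.IsSaturated p) (hq : 3 < qq K) (hN : Nm F)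
    (hV : F.IsEssential p (Vs K)) (hQ : F.IsEssential p (Qs K)) : HasL F := by
  intro y
  obtain ⟨μ, sμ, h0, h1⟩ := exists_mu hq
  obtain ⟨δ, hδ, hD⟩ := tor_t2 hF hq hN hQ μ h0 sμ
  obtain ⟨g, hg, -, e⟩ := res_X (mem_inf.1 hδ).1
  refine ll_mem (syl_X hF) (ti_X hF (by omega)) (nn_X hF hV) hg sμ h0 h1 ?_ ?_ ?_ y
  · intro v
    have := hD.a (jv v)
    rw [e] at this
    simp only [jv_v, RingEquiv.refl_apply, star_inv₀, sμ] at this
    rw [this]; field_simp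
  · intro v
    have := hD.b (jv v)
    rw [e] at this
    simp only [jv_v, RingEquiv.refl_apply] at this
    rw [this]; field_simp
  · intro v
    have := hD.c (jv v)
    rw [e] at this
    simpa using this

/-- The torus element of `SL₂(K)` acting on `V`. -/
def torH (l : K) : GA (Hm K) :=
  uu l * ll (-(star l)⁻¹) * uu l * (uu (-1) * ll 1 * uu (-1))

theorem torH_apply {l : K} (hl : l ≠ 0) (v : Hm K) :
    (torH l v).a = l * star l * v.a ∧ (torH l v).b = l * (star l)⁻¹ * v.b ∧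
      (torH l v).c = (l * star l)⁻¹ * v.c := by
  have hs : star l ≠ 0 := star_ne_zero.2 hl
  refine ⟨?_, ?_, ?_⟩ <;>
  · simp [torH, ga_mul]
    field_simp
    ring

theorem torH_uu {l : K} (hl : l ≠ 0) (x : K) : torH l * uu x = uu (l * l * x) * torH l := by
  have hs : star l ≠ 0 := star_ne_zero.2 hl
  refine LinearEquiv.ext fun v => ?_
  obtain ⟨a1, b1, c1⟩ := torH_apply hl (uu x v)
  obtain ⟨a2, b2, c2⟩ := torH_apply hl v
  rw [ga_mul, ga_mul]
  ext
  · rw [a1, uu_a, uu_a, a2, b2, c2]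
    simp only [star_mul', star_star, star_inv₀]
    field_simp
  · rw [b1, uu_b, uu_b, b2, c2]
    field_simp
  · rw [c1, uu_c, uu_c, c2]

theorem torH_norm {l : K} (hl : l ≠ 0) : torH l ∈ normalizer (PP K : Set (GA (Hm K))) := by
  rw [mem_normalizer_iff]
  intro h
  constructor
  · rintro ⟨x, rfl⟩
    exact ⟨l * l * x, by rw [torH_uu hl, mul_inv_cancel_right]⟩
  · rintro ⟨y, e⟩
    refine ⟨(l * l)⁻¹ * y, ?_⟩
    have := torH_uu hl ((l * l)⁻¹ * y)
    rw [mul_inv_cancel_left₀ (mul_ne_zero hl hl), ← e, inv_mul_cancel_right] at this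
    exact (mul_left_cancel this).symm

theorem tor_t1 {F : FS K} (hF : F.IsSaturated p) (hN : Nm F) (hL : HasL F) (l : K) (hl : l ≠ 0) :
    ∃ δ ∈ AF F ⊓ Dg K, IsD (l * l) (l * star l)⁻¹ (RingEquiv.refl K) δ := by
  have hs : star l ≠ 0 := star_ne_zero.2 hl
  have hX : torH l ∈ XF F :=
    mul_mem (mul_mem (mul_mem (uu_mem_X F _) (hL _)) (uu_mem_X F _))
      (mul_mem (mul_mem (uu_mem_X F _) (hL _)) (uu_mem_X F _))
  obtain ⟨α, hα, e⟩ := ext_X hF hX (torH_norm hl)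
  obtain ⟨δ, hD⟩ := exists_D (l := l * l) (m := (l * star l)⁻¹) (RingEquiv.refl K)
    (mul_ne_zero hl hl) (inv_ne_zero (mul_ne_zero hl hs)) (by simp [mul_comm])
  refine ⟨δ, mem_inf.2 ⟨mem_A_of hN hα hD ?_ ?_, mem_Dg.2 ⟨_, _, _, hD⟩⟩, hD⟩
  · intro g
    let v : Hm K := ⟨0, 0, 1, by simp, by simp⟩
    have h1 := congrArg α (conj_jv g v)
    rw [map_mul, map_mul, map_inv, e, e, conj_jv, ← ga_mul, ← ga_mul, torH_uu hl, ga_mul,
      ga_mul] at h1
    have h2 := congrArg (fun u : UG K => u.v.b) h1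
    simp only [jv_v, uu_b, add_right_inj] at h2
    have h3 : (torH l v).c ≠ 0 := by
      rw [(torH_apply hl v).2.2]
      exact mul_ne_zero (inv_ne_zero (mul_ne_zero hl hs)) one_ne_zero
    simpa using mul_right_cancel₀ h3 h2
  · intro g
    have h1 : α g = jv (torH l g.v) * α (sx g.x) := by
      conv_lhs => rw [← jv_mul_sx g]
      rw [map_mul, e]
    have h2 : (α (sx g.x)).v.c = 0 := aut_Q α (g := sx g.x) (by simp [mem_Qs])
    rw [h1]
    simp only [mul_v, jv_v, jv_x, add_c, uu_c, h2, add_zero, RingEquiv.refl_apply]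
    exact (torH_apply hl _).2.2

theorem std_of {F : FS K} (hF : F.IsSaturated p) (hq : 3 < qq K) (hN : Nm F)
    (hV : F.IsEssential p (Vs K)) (hQ : F.IsEssential p (Qs K)) :
    HasT (AF F ⊓ Dg K) ∧ HasL F ∧ HasW F := by
  have hL := tor_hasL hF hq hN hV hQ
  refine ⟨⟨tor_t1 hF hN hL, tor_t2 hF hq hN hQ⟩, hL, ?_⟩
  obtain ⟨l, h1, h4⟩ := exists_lam hq
  have hl : l ≠ 0 := fun h => by simp [h] at h1
  obtain ⟨ν, hν, hD⟩ := tor_t1 hF hN hL l hl
  rw [h1, inv_one] at hD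
  have h2 : l * l * star (l * l) = 1 := by
    rw [star_mul']; linear_combination (l * star l + 1) * h1
  have h3 : l * l * (l * l) ≠ 1 := fun h => h4 (by rw [← h]; ring)
  have h5 : l * l ≠ 1 := fun h => h3 (by rw [h, mul_one])
  obtain ⟨M, hM, e⟩ := qInd_D (mem_inf.1 hν).1 hD h2
  exact hasW_of hF (mem_inf.1 hν).1 hD h2 h5
    (wr_mem (yh_Y hF) hq (nn_Y hF hQ) (mem_YF.2 ⟨_, hM⟩) h2 h3 e)

end Cfsg.Agent.U4F
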