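import Mathlib
import Cfsg.Agent.U4F.Tor
import Cfsg.Agent.U4F.Eq
import Cfsg.Agent.U4F.Real

/-!
# Fusion systems on `UG K` with trivial core, `q > 3`
-/

set_option autoImplicit false
set_option linter.unusedSectionVars false
set_option linter.unusedVariables false

namespace Cfsg.Agent.U4F

open Cfsg Cfsg.FusionSystem Cfsg.Agent.Fus Subgroup

variable {K : Type*} [Field K] [StarRing K] [UF K] {p : ℕ} [Fact p.Prime] [CharP K p]

theorem rz_big (hq : 3 < qq K) (F : FS K) (hF : F.IsSaturated p) (hc : F.core = ⊥) : Rz p F := by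
  obtain ⟨κ, F₁, hT, hN⟩ := exists_norm hF
  have h1 : F₁.IsSaturated p := hT.isSaturated hF (isPGroup_top K p)
  have hc1 := hT.core_eq_bot hc
  obtain ⟨ht, hL, hW⟩ := std_of h1 hq hN (ess_V h1 hc1 (by omega)) (ess_Q h1 hc1)
  obtain ⟨F', hR, h2, hA, hL', hW'⟩ := real_ex (p := p) _ inf_le_right (not_dvd_AD h1) ht
  have e : AF F₁ = AF F' := by
    ext α
    rw [hA]
    exact ⟨hN α, fun ⟨s, δ, hδ, e⟩ => e ▸ mul_mem (conj_mem_AF F₁ s) hδ.1⟩
  obtain rfl : F₁ = F' := le_antisymm' (le_of_std h1 hq e.le hL hW hL' hW')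
    (le_of_std h2 hq e.ge hL' hW' hL hW)
  exact hR.of_iso hT

end Cfsg.Agent.U4F
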